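import Cfsg.Agent.BG.I04
import Cfsg.Agent.Lin.Quat

/-!
# 2-groups all of whose abelian normal subgroups are cyclic
-/

set_option autoImplicit false
set_option linter.unusedSectionVars false

open Cfsg CA.FG CA.BG Subgroup

open scoped commutatorElement

namespace CA.TG

universe u

theorem two_pow_dvd_of {m : ℕ} {a b : ℤ} (hb : Odd b) (h : 2 ^ (m + 1) ∣ a * (2 * b)) : 2 ^ m ∣ a := by
  rw [pow_succ, show a * (2 * b) = a * b * 2 by ring] at h
  exact (Int.isCoprime_two_left.2 hb).pow_left.dvd_of_dvd_mul_right (Int.dvd_of_mul_dvd_mul_right two_ne_zero h)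

variable {P : Type u} [Group P] {c : P} {m : ℕ}

theorem conj_zpow_eq {g : P} {k : ℤ} (h : g * c * g⁻¹ = c ^ k) (j : ℤ) : g * c ^ j * g⁻¹ = c ^ (k * j) := by
  rw [zpow_mul, ← h, conj_zpow]

section
variable (ho : orderOf c = 2 ^ (m + 1))
include ho

theorem zpow_eq_iff {i j : ℤ} : c ^ i = c ^ j ↔ 2 ^ (m + 1) ∣ j - i := by
  rw [zpow_eq_zpow_iff_modEq, ho, Int.modEq_iff_dvd]; simp

theorem zpow_eq_one {i : ℤ} : c ^ i = 1 ↔ 2 ^ (m + 1) ∣ i := by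
  rw [← orderOf_dvd_iff_zpow_eq_one, ho]; simp

theorem half_ne_one : c ^ (2 ^ m : ℤ) ≠ 1 := fun h => by
  have := Int.le_of_dvd (by positivity) ((zpow_eq_one ho).1 h)
  have : (0 : ℤ) < 2 ^ m := by positivity
  rw [pow_succ] at *; omega

theorem half_sq : c ^ (2 ^ m : ℤ) * c ^ (2 ^ m : ℤ) = 1 := by
  rw [← zpow_add, zpow_eq_one ho, pow_succ]; exact ⟨1, by ring⟩

theorem half_cases {i : ℤ} (h : 2 ^ m ∣ i) : c ^ i = 1 ∨ c ^ i = c ^ (2 ^ m : ℤ) := by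
  obtain ⟨j, rfl⟩ := h
  rw [zpow_eq_one ho, zpow_eq_iff ho, pow_succ]
  rcases Int.even_or_odd' j with ⟨k, rfl | rfl⟩
  exacts [Or.inl ⟨k, by ring⟩, Or.inr ⟨-k, by ring⟩]

theorem exp_odd {g : P} {k : ℤ} (h : g * c * g⁻¹ = c ^ k) : Odd k := by
  refine Int.not_even_iff_odd.1 fun ⟨j, hj⟩ => half_ne_one ho ?_
  have := conj_zpow_eq h (2 ^ m)
  rw [(zpow_eq_one ho (i := k * 2 ^ m)).2 ⟨j, by rw [hj]; ring⟩] at this
  simpa using this

theorem half_central {g : P} {k : ℤ} (h : g * c * g⁻¹ = c ^ k) :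
    g * c ^ (2 ^ m : ℤ) * g⁻¹ = c ^ (2 ^ m : ℤ) := by
  obtain ⟨j, hj⟩ := exp_odd ho h
  rw [conj_zpow_eq h, zpow_eq_iff ho]; exact ⟨-j, by rw [hj]; ring⟩

variable [Finite P] (hn : ∀ A : Subgroup P, A.Normal → IsMulCommutative A → IsCyclic A)
  (nA : ∀ g : P, ∃ k : ℤ, g * c * g⁻¹ = c ^ k) (hC : ∀ g : P, g * c * g⁻¹ = c → g ∈ zpowers c)
include hn nA

theorem no_four {y : P} (hy : y ∉ zpowers c) (y2 : y * y = 1)
    (h : ∀ g : P, g * y * g⁻¹ = y ∨ g * y * g⁻¹ = y * c ^ (2 ^ m : ℤ)) : False := by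
  set z := c ^ (2 ^ m : ℤ) with hz
  have zc : ∀ g : P, g * z * g⁻¹ = z := fun g => (nA g).elim fun _ => half_central ho
  have z2 : z * z = 1 := half_sq ho
  have ab : IsMulCommutative ↥(zpowers y ⊔ zpowers z) := abelian_sup (abelian_zpowers y) (abelian_zpowers z)
    (by rw [cent_zpowers, zpowers_le, mem_centralizer_singleton_iff]; exact mul_inv_eq_iff_eq_mul.1 (zc y))
  have hyV : y ∈ zpowers y ⊔ zpowers z := mem_sup_left (mem_zpowers y)
  have hzV : z ∈ zpowers y ⊔ zpowers z := mem_sup_right (mem_zpowers z)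
  have nV : (zpowers y ⊔ zpowers z).Normal := ⟨fun x hx g => by
    have : zpowers y ⊔ zpowers z ≤ (zpowers y ⊔ zpowers z).comap (MulAut.conj g).toMonoidHom := by
      refine sup_le (zpowers_le.2 ?_) (zpowers_le.2 ?_)
      · show g * y * g⁻¹ ∈ zpowers y ⊔ zpowers z
        rcases h g with e | e <;> rw [e]
        exacts [hyV, mul_mem hyV hzV]
      · show g * z * g⁻¹ ∈ zpowers y ⊔ zpowers z
        rwa [zc]
    exact this hx⟩
  have o : ∀ x : P, x * x = 1 → x ≠ 1 → Nat.card (zpowers x) = 2 := fun x h1 h2 => by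
    rw [Nat.card_zpowers]; exact orderOf_eq_prime (by rw [sq, h1]) h2
  have := eq_of_cyclic_of_card_eq (hn _ nV ab) le_sup_left le_sup_right
    ((o y y2 fun e => hy (e ▸ one_mem _)).trans (o z z2 (half_ne_one ho)).symm)
  exact hy (zpowers_le.2 (zpow_mem (mem_zpowers c) _) (this ▸ mem_zpowers y))

omit ho hn nA in
theorem sq_mul {y : P} {u k : ℤ} (h : y * c * y⁻¹ = c ^ u) (h2 : y * y = c ^ k) (j : ℤ) :
    y * c ^ j * (y * c ^ j) = c ^ (u * j + k + j) := by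
  rw [zpow_add, zpow_add, ← conj_zpow_eq h, ← h2]; group

omit hn nA in
theorem sq_dvd {y : P} {u k : ℤ} (h : y * c * y⁻¹ = c ^ u) (h2 : y * y = c ^ k) :
    2 ^ (m + 1) ∣ k * (u - 1) := by
  have := conj_zpow_eq h k
  rw [← h2, ← mul_assoc, mul_assoc (y * y), mul_inv_cancel, mul_one, h2, zpow_eq_iff ho] at this
  rwa [show k * (u - 1) = u * k - k by ring]

omit ho hn nA in
theorem conj_mul_zpow {y : P} {u : ℤ} (h : y * c * y⁻¹ = c ^ u) (j : ℤ) :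
    y * c ^ j * c * (y * c ^ j)⁻¹ = c ^ u := by rw [← h]; group

include hC

omit hn nA in
theorem sq_mem {y : P} {u : ℤ} (h : y * c * y⁻¹ = c ^ u) (hu : 2 ^ (m + 1) ∣ (u - 1) * (u + 1)) :
    y * y ∈ zpowers c := hC _ (by
  rw [show y * y * c * (y * y)⁻¹ = y * (y * c * y⁻¹) * y⁻¹ by group, h, conj_zpow_eq h]
  conv_rhs => rw [← zpow_one c]
  rw [eq_comm, zpow_eq_iff ho]; rwa [show u * u - 1 = (u - 1) * (u + 1) by ring])

variable (hD : ∀ g y : P, ∃ j : ℤ, g * y * g⁻¹ = y * c ^ j)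
include hD

theorem no_modular (hm : 2 ≤ m) {x : P} (hx : x * c * x⁻¹ = c ^ (1 + 2 ^ m : ℤ)) : False := by
  obtain ⟨m, rfl⟩ : ∃ k, m = k + 2 := ⟨m - 2, by omega⟩
  obtain ⟨k, hk⟩ := sq_mem ho hC hx ⟨2 * 2 ^ m + 1, by ring⟩
  obtain ⟨l, hl⟩ : 2 ∣ k := by
    have := sq_dvd ho hx hk.symm
    rw [add_sub_cancel_left, pow_succ'] at this
    exact Int.dvd_of_mul_dvd_mul_right (by positivity) this
  have od : Odd (2 * 2 ^ m + 1 : ℤ) := ⟨_, rfl⟩
  obtain ⟨a, b, e⟩ := (Int.isCoprime_two_left.2 od).pow_left (m := m + 2)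
  have y2 : x * c ^ (-(b * l)) * (x * c ^ (-(b * l))) = 1 := by
    rw [sq_mul hx hk.symm, zpow_eq_one ho, hl]
    exact ⟨a * l, by linear_combination (-2 * l) * e⟩
  have hy := conj_mul_zpow hx (-(b * l))
  generalize x * c ^ (-(b * l)) = y at *
  refine no_four ho hn nA (y := y) ?_ y2 fun g => ?_
  · rintro ⟨i, rfl⟩
    refine half_ne_one ho ?_
    rw [zpow_add, zpow_one, show c ^ i * c * (c ^ i)⁻¹ = c by group] at hy
    exact (left_eq_mul.1 hy)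
  · obtain ⟨j, hj⟩ := hD g y
    have := sq_mul hy (k := 0) (by simpa using y2) j
    rw [← hj, show g * y * g⁻¹ * (g * y * g⁻¹) = g * (y * y) * g⁻¹ by group, y2, mul_one, mul_inv_cancel,
      eq_comm, zpow_eq_one ho] at this
    rcases half_cases ho (two_pow_dvd_of od (a := j) (by convert this using 1; ring)) with h | h <;>
      simp [hj, h]

theorem mem_of_sq (hm : 1 ≤ m) {g : P} {u : ℤ} (h : g * c * g⁻¹ = c ^ u) (h4 : 4 ∣ u - 1)
    (h2 : g * g ∈ zpowers c) : g ∈ zpowers c := by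
  obtain ⟨t, ht⟩ := h4
  obtain ⟨i, hi⟩ := h2
  have e : g * g * c * (g * g)⁻¹ = c ^ (1 : ℤ) := by rw [← hi]; group
  rw [show g * g * c * (g * g)⁻¹ = g * (g * c * g⁻¹) * g⁻¹ by group, h, conj_zpow_eq h, eq_comm,
    zpow_eq_iff ho] at e
  have e2 := half_cases ho (two_pow_dvd_of (a := u - 1) (b := 2 * t + 1) ⟨t, rfl⟩
    (by convert e using 1; linear_combination (1 - u) * ht))
  have e3 : c ^ u = c * c ^ (u - 1) := by group
  rcases e2 with e2 | e2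
  · exact hC g (by rw [h, e3, e2, mul_one])
  rcases hm.eq_or_lt with rfl | hm
  · exact absurd (e2.symm.trans ((zpow_eq_one ho).2 ⟨t, by rw [ht]; ring⟩)) (half_ne_one ho)
  · exact (no_modular ho hn nA hC hD hm (x := g) (by rw [h, e3, e2, zpow_add, zpow_one])).elim

theorem mem_of_four_dvd (hP : IsPGroup 2 P) (hm : 1 ≤ m) {g : P} {u : ℤ} (h : g * c * g⁻¹ = c ^ u)
    (h4 : 4 ∣ u - 1) : g ∈ zpowers c := by
  obtain ⟨j, hj⟩ := hP g
  replace hj : g ^ 2 ^ j ∈ zpowers c := hj ▸ one_mem _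
  induction j generalizing g u with
  | zero => simpa using hj
  | succ j ih =>
    refine mem_of_sq ho hn nA hC hD hm h h4 (ih (u := u * u) ?_ ?_ (by rwa [← sq, ← pow_mul, ← pow_succ']))
    · rw [← conj_zpow_eq h, ← h]; group
    · exact (h4.mul_right (u + 1)).trans (dvd_of_eq (by ring))

theorem struct_aux (hP : IsPGroup 2 P) (hm : 1 ≤ m) {x : P} (hx : x ∉ zpowers c) :
    ∃ y, y ∉ zpowers c ∧ (∀ g, g ∈ zpowers c ∨ y⁻¹ * g ∈ zpowers c) ∧
      ((c * y = y * c⁻¹ ∧ y * y = c ^ 2 ^ m) ∨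
        (2 ≤ m ∧ y * y = 1 ∧ (c * y = y * c⁻¹ ∨ y * c * y⁻¹ = c ^ (2 ^ m - 1)))) := by
  have three : ∀ g ∉ zpowers c, ∀ u : ℤ, g * c * g⁻¹ = c ^ u → 4 ∣ u + 1 := fun g hg u hu => by
    have h1 := mt (mem_of_four_dvd ho hn nA hC hD hP hm hu) hg
    obtain ⟨k, hk⟩ := exp_odd ho hu
    omega
  have gen : ∀ y ∉ zpowers c, ∀ g, g ∈ zpowers c ∨ y⁻¹ * g ∈ zpowers c := fun y hy g => by
    refine or_iff_not_imp_left.2 fun hg => ?_
    obtain ⟨u, hu⟩ := nA y⁻¹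
    obtain ⟨v, hv⟩ := nA g
    refine mem_of_four_dvd ho hn nA hC hD hP hm (u := u * v) (by rw [← conj_zpow_eq hu, ← hv]; group) ?_
    obtain ⟨a, ha⟩ := three _ (mt inv_mem_iff.1 hy) u hu
    obtain ⟨b, hb⟩ := three _ hg v hv
    exact ⟨4 * a * b - a - b, by
      rw [show u = 4 * a - 1 by omega, show v = 4 * b - 1 by omega]; ring⟩
  obtain ⟨u, hu⟩ := nA x
  obtain ⟨t, ht⟩ := three x hx u hu
  have od : Odd (2 * t - 1) := ⟨t - 1, by ring⟩
  have eu : u - 1 = 2 * (2 * t - 1) := by omega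
  obtain ⟨k, hk⟩ : x * x ∈ zpowers c := by simpa using inv_mem ((gen x hx x⁻¹).resolve_left (mt inv_mem_iff.1 hx))
  have x2 : x * x = 1 ∨ x * x = c ^ (2 ^ m : ℤ) :=
    hk ▸ half_cases ho (two_pow_dvd_of od (eu ▸ sq_dvd ho hu hk.symm))
  have e : x * x * c * (x * x)⁻¹ = c ^ (1 : ℤ) := by rw [← hk]; group
  rw [show x * x * c * (x * x)⁻¹ = x * (x * c * x⁻¹) * x⁻¹ by group, hu, conj_zpow_eq hu, eq_comm,
    zpow_eq_iff ho] at e
  have e3 : c ^ u = c ^ (u + 1) * c⁻¹ := by group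
  have inv : x * c * x⁻¹ = c⁻¹ → c * x = x * c⁻¹ := fun h => by
    rw [show x * c⁻¹ = (x * c * x⁻¹)⁻¹ * x by group, h, inv_inv]
  have cast : c ^ (2 ^ m : ℤ) = c ^ 2 ^ m := by exact_mod_cast rfl
  have case1 : x * c * x⁻¹ = c⁻¹ → ∃ y, y ∉ zpowers c ∧ (∀ g, g ∈ zpowers c ∨ y⁻¹ * g ∈ zpowers c) ∧
      ((c * y = y * c⁻¹ ∧ y * y = c ^ 2 ^ m) ∨
        (2 ≤ m ∧ y * y = 1 ∧ (c * y = y * c⁻¹ ∨ y * c * y⁻¹ = c ^ (2 ^ m - 1)))) := fun h => by
    refine ⟨x, hx, gen x hx, x2.symm.imp (fun h2 => ⟨inv h, cast ▸ h2⟩) fun h2 => ⟨?_, h2, Or.inl (inv h)⟩⟩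
    by_contra hm2
    obtain rfl : m = 1 := by omega
    have key : ∀ i : ℤ, c ^ i * x * (c ^ i)⁻¹ = x ∨ c ^ i * x * (c ^ i)⁻¹ = x * c ^ (2 ^ 1 : ℤ) := fun i => by
      have : c ^ i * x * (c ^ i)⁻¹ = x * c ^ (-i * 2) := by
        have h3 := conj_zpow_eq (k := -1) (h.trans (zpow_neg_one c).symm) (-i)
        rw [show c ^ i * x = x * c ^ (-i) by rw [mul_inv_eq_iff_eq_mul.1 h3]; simp]
        group
      rcases half_cases ho (i := -i * 2) ⟨-i, by ring⟩ with h | h <;> rw [this, h] <;> simp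
    refine no_four ho hn nA hx h2 fun g => ?_
    rcases gen x hx g with ⟨i, rfl⟩ | ⟨i, hi⟩
    · exact key i
    · obtain rfl : g = x * c ^ i := by rw [show c ^ i = x⁻¹ * g from hi]; group
      rw [show x * c ^ i * x * (x * c ^ i)⁻¹ = x * (c ^ i * x * (c ^ i)⁻¹) * x⁻¹ by group]
      rcases key i with h | h <;> rw [h]
      · simp
      · right
        rw [mul_assoc, mul_assoc, ← mul_assoc x (c ^ _), half_central ho hu]
  rcases half_cases ho (two_pow_dvd_of (a := u + 1) od (by convert e using 1; rw [← eu]; ring)) with h | h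
  · exact case1 (by rw [hu, e3, h, one_mul])
  rcases hm.eq_or_lt with rfl | hm2
  · exact absurd (h.symm.trans ((zpow_eq_one ho).2 ⟨t, by rw [ht]; ring⟩)) (half_ne_one ho)
  have hu' : x * c * x⁻¹ = c ^ (2 ^ m - 1 : ℤ) := by rw [hu, e3, h]; group
  have cast2 : c ^ (2 ^ m - 1 : ℤ) = c ^ (2 ^ m - 1) := by
    rw [← zpow_natCast, Nat.cast_sub Nat.one_le_two_pow]; simp
  rcases x2 with x2 | x2
  · exact ⟨x, hx, gen x hx, Or.inr ⟨hm2, x2, Or.inr (cast2 ▸ hu')⟩⟩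
  have hx' : x * c ^ (1 : ℤ) ∉ zpowers c := fun h => hx ((mul_mem_cancel_right (zpow_mem_zpowers c 1)).1 h)
  refine ⟨_, hx', gen _ hx', Or.inr ⟨hm2, ?_, Or.inr (cast2 ▸ conj_mul_zpow hu' 1)⟩⟩
  rw [sq_mul hu' x2, zpow_eq_one ho]; exact ⟨1, by ring⟩

end

/-- A finite 2-group whose abelian normal subgroups are cyclic is cyclic, generalised quaternion, dihedral or
semidihedral. -/
theorem struct_of_normal_cyclic [Finite P] (hP : IsPGroup 2 P)
    (hn : ∀ A : Subgroup P, A.Normal → IsMulCommutative A → IsCyclic A) :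
    IsCyclic P ∨ ∃ (m : ℕ) (c y : P), 1 ≤ m ∧ orderOf c = 2 ^ (m + 1) ∧ y ∉ zpowers c ∧
      (∀ g, g ∈ zpowers c ∨ y⁻¹ * g ∈ zpowers c) ∧ ((c * y = y * c⁻¹ ∧ y * y = c ^ 2 ^ m) ∨
        (2 ≤ m ∧ y * y = 1 ∧ (c * y = y * c⁻¹ ∨ y * c * y⁻¹ = c ^ (2 ^ m - 1)))) := by
  have pT : IsPGrp 2 (⊤ : Subgroup P) := pGrp_of_isPGroup Nat.prime_two (hP.to_subgroup _)
  obtain ⟨A, ⟨-, nA, cA⟩, -⟩ := exists_SCN_of_abelian_normal Nat.prime_two pT (bot_normalIn _)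
    (abelian_of_cyclic cyclic_bot)
  rw [top_inf_eq] at cA
  have cyc := hn A (normal_of_top_le_norm nA) (abelian_iff_le_cent.2 cA.ge)
  obtain ⟨c, rfl⟩ := (Subgroup.isCyclic_iff_exists_zpowers_eq_top A).1 cyc
  rw [cent_zpowers] at cA
  have hC : ∀ g : P, g * c * g⁻¹ = c → g ∈ zpowers c := fun g h =>
    cA ▸ mem_centralizer_singleton_iff.2 (mul_inv_eq_iff_eq_mul.1 h)
  have nA' : ∀ g : P, ∃ k : ℤ, g * c * g⁻¹ = c ^ k := fun g =>
    (conj_mem_of_le_norm nA (mem_top g) (mem_zpowers c)).imp fun _ => Eq.symm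
  refine or_iff_not_imp_left.2 fun nc => ?_
  obtain ⟨x, hx⟩ : ∃ x, x ∉ zpowers c := by
    by_contra! h; exact nc ⟨⟨c, h⟩⟩
  have := Fact.mk Nat.prime_two
  obtain ⟨n, ho⟩ := IsPGroup.iff_orderOf.1 hP c
  rcases n with _ | _ | m
  · exact absurd (hC x (by simp [orderOf_eq_one_iff.1 ho])) hx
  · obtain ⟨k, hk⟩ := nA' x
    exact absurd (hC x (by simpa using half_central ho hk)) hx
  refine (struct_aux ho hn nA' hC (fun g y => ?_) hP (by omega) hx).elim fun y hy =>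
    ⟨m + 1, c, y, by omega, ho, hy⟩
  obtain ⟨j, hj⟩ : ⁅y⁻¹, g⁆ ∈ zpowers c := cA ▸ cent_zpowers c ▸
    der_le_cent_of_cyclic cyc nA (commutator_mem_commutator (mem_top _) (mem_top _))
  exact ⟨j, by rw [show c ^ j = _ from hj, commutatorElement_def]; group⟩

theorem card_of_index_two [Finite P] {c y : P} (hy : y ∉ zpowers c)
    (h : ∀ g, g ∈ zpowers c ∨ y⁻¹ * g ∈ zpowers c) : Nat.card P = 2 * orderOf c := by
  have : (zpowers c).index = 2 := index_eq_two_iff'.2 ⟨y⁻¹, fun g => by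
    have : g ∈ zpowers c → y⁻¹ * g ∉ zpowers c := fun h1 h2 => hy (inv_mem_iff.1 ((mul_mem_cancel_right h1).1 h2))
    exact (h g).elim (fun h1 => Or.inr ⟨h1, this h1⟩) fun h1 => Or.inl ⟨h1, fun h2 => this h2 h1⟩⟩
  rw [← (zpowers c).index_mul_card, this, Nat.card_zpowers]

/-- A finite 2-group whose abelian subgroups are cyclic is cyclic or generalised quaternion. -/
theorem cyclic_or_quaternion [Finite P] (hP : IsPGroup 2 P)
    (hn : ∀ A : Subgroup P, IsMulCommutative A → IsCyclic A) :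
    IsCyclic P ∨ ∃ n : ℕ, Nonempty (P ≃* QuaternionGroup (2 ^ n)) := by
  refine (struct_of_normal_cyclic hP fun A _ => hn A).imp_right ?_
  rintro ⟨m, c, y, -, ho, hy, gen, ⟨h1, h2⟩ | ⟨-, y2, h⟩⟩
  · exact ⟨m, Cfsg.Agent.Lin.nonempty_equiv_quaternion _ c y (by rw [ho, pow_succ']) h1 h2 hy gen⟩
  exfalso
  obtain ⟨k, hk⟩ : ∃ k : ℤ, y * c * y⁻¹ = c ^ k := by
    rcases h with h | h
    · exact ⟨-1, by rw [show y * c * y⁻¹ = (y * c⁻¹ * y⁻¹)⁻¹ by group, ← h]; group⟩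
    · exact ⟨_, h.trans (zpow_natCast _ _).symm⟩
  have zc := half_central ho hk
  have o : ∀ x : P, x * x = 1 → x ≠ 1 → Nat.card (zpowers x) = 2 := fun x h1 h2 => by
    rw [Nat.card_zpowers]; exact orderOf_eq_prime (by rw [sq, h1]) h2
  have := eq_of_cyclic_of_card_eq (hn _ (abelian_sup (abelian_zpowers y) (abelian_zpowers (c ^ (2 ^ m : ℤ)))
    (by rw [cent_zpowers, zpowers_le, mem_centralizer_singleton_iff]; exact mul_inv_eq_iff_eq_mul.1 zc)))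
    le_sup_left le_sup_right ((o y y2 fun e => hy (e ▸ one_mem _)).trans (o _ (half_sq ho) (half_ne_one ho)).symm)
  exact hy (zpowers_le.2 (zpow_mem (mem_zpowers c) _) (this ▸ mem_zpowers y))

end CA.TG
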